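import Cfsg.Agent.H320.SD.Codim

/-!
# `Chief c D X` from the class number and codimensions (helper320)
-/

set_option autoImplicit false
set_option linter.unusedSectionVars false

namespace Cfsg.Agent.H320.SD

open Cfsg

universe u v

section Count

variable {X : Type v} [Group X] [Finite X] {A : Type u} [AddCommGroup A] [DistribMulAction X A] [Finite A]

theorem card_pairs (x : A) : Nat.card {p : X × X // p.1 • x = x ∧ p.2 • x = x ∧ Commute p.1 p.2} =
    Nat.card (ConjClasses (MulAction.stabilizer X x)) * Nat.card (MulAction.stabilizer X x) := by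
  rw [← card_comm_eq_card_conjClasses_mul_card]
  refine Nat.card_congr ⟨fun p => ⟨(⟨p.1.1, p.2.1⟩, ⟨p.1.2, p.2.2.1⟩), Subtype.ext p.2.2.2⟩,
    fun p => ⟨((p.1.1 : X), (p.1.2 : X)), p.1.1.2, p.1.2.2, congrArg Subtype.val p.2⟩, fun p => rfl, fun p => rfl⟩

theorem card_pairs_zero : Nat.card {p : X × X // p.1 • (0 : A) = 0 ∧ p.2 • (0 : A) = 0 ∧ Commute p.1 p.2} =
    Nat.card (ConjClasses X) * Nat.card X := by
  rw [← card_comm_eq_card_conjClasses_mul_card]
  refine Nat.card_congr ⟨fun p => ⟨p.1, p.2.2.2⟩, fun p => ⟨p.1, smul_zero _, smul_zero _, p.2⟩, fun p => rfl, fun p => rfl⟩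

/-- the count -/
theorem count {c K q : ℕ} (hc : 1 ≤ c) (hk : Nat.card (ConjClasses X) ≤ K) (hcod : ∀ z : X, z ≠ 1 → q ≤ (fx A z).index)
    (hq : c * K < q) (hX : c * q < Nat.card X)
    (hT : ∀ x : A, x ≠ 0 → Nat.card X ≤
      c * (Nat.card (MulAction.stabilizer X x) * Nat.card (ConjClasses (MulAction.stabilizer X x)))) : False := by
  classical
  have := Fintype.ofFinite X
  have := Fintype.ofFinite A
  set n := Nat.card X with hn
  set a := Nat.card A with ha
  have ha0 : 0 < a := Nat.card_pos
  have hn0 : 0 < n := Nat.card_pos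
  have hk0 : 0 < Nat.card (ConjClasses X) := by
    have : Finite (ConjClasses X) := Quotient.finite _
    exact Nat.card_pos
  set S := ∑ x : A, Nat.card {p : X × X // p.1 • x = x ∧ p.2 • x = x ∧ Commute p.1 p.2} with hS
  have h1 : S = ∑ p : X × X, Nat.card {x : A // p.1 • x = x ∧ p.2 • x = x ∧ Commute p.1 p.2} := by
    rw [hS]
    simp only [Nat.card_eq_fintype_card, Fintype.card_subtype, Finset.card_filter]
    exact Finset.sum_comm
  -- lower bound
  have h2 : a * n ≤ c * S := by
    rw [hS, Finset.mul_sum]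
    have h3 : ∀ x : A, n ≤ c * Nat.card {p : X × X // p.1 • x = x ∧ p.2 • x = x ∧ Commute p.1 p.2} := by
      intro x
      by_cases hx : x = 0
      · subst hx
        rw [card_pairs_zero, ← hn]
        calc n = 1 * (1 * n) := by ring
          _ ≤ c * (Nat.card (ConjClasses X) * n) := Nat.mul_le_mul hc (Nat.mul_le_mul_right _ hk0)
      · rw [card_pairs, mul_comm (Nat.card (ConjClasses _))]
        exact hT x hx
    calc a * n = ∑ _x : A, n := by rw [Finset.sum_const, Finset.card_univ, smul_eq_mul, ha, Nat.card_eq_fintype_card]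
      _ ≤ _ := Finset.sum_le_sum fun x _ => h3 x
  -- upper bound
  have h4 : q * S ≤ q * a + Nat.card (ConjClasses X) * n * a := by
    rw [h1, Finset.mul_sum]
    have h5 : ∀ p : X × X, q * Nat.card {x : A // p.1 • x = x ∧ p.2 • x = x ∧ Commute p.1 p.2} ≤
        (if p = (1, 1) then q * a else 0) + (if Commute p.1 p.2 then a else 0) := by
      intro p
      by_cases hp : p = (1, 1)
      · rw [if_pos hp]
        refine le_trans (Nat.mul_le_mul_left _ ?_) (Nat.le_add_right _ _)
        exact Nat.card_le_card_of_injective _ Subtype.val_injective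
      · rw [if_neg hp, zero_add]
        by_cases hcm : Commute p.1 p.2
        · rw [if_pos hcm]
          obtain ⟨z, hz, hle⟩ : ∃ z : X, z ≠ 1 ∧
              Nat.card {x : A // p.1 • x = x ∧ p.2 • x = x ∧ Commute p.1 p.2} ≤ Nat.card (fx A z) := by
            by_cases h : p.1 = 1
            · refine ⟨p.2, fun h' => hp (Prod.ext h h'), ?_⟩
              exact Nat.card_le_card_of_injective (fun x => (⟨x.1, x.2.2.1⟩ : fx A p.2)) fun x y hxy =>
                Subtype.ext (congrArg (fun w : fx A p.2 => (w : A)) hxy)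
            · refine ⟨p.1, h, ?_⟩
              exact Nat.card_le_card_of_injective (fun x => (⟨x.1, x.2.1⟩ : fx A p.1)) fun x y hxy =>
                Subtype.ext (congrArg (fun w : fx A p.1 => (w : A)) hxy)
          have h6 := AddSubgroup.card_mul_index (fx A z)
          calc q * _ ≤ (fx A z).index * Nat.card (fx A z) := Nat.mul_le_mul (hcod z hz) hle
            _ = a := by rw [mul_comm, h6]
        · rw [if_neg hcm]
          have : IsEmpty {x : A // p.1 • x = x ∧ p.2 • x = x ∧ Commute p.1 p.2} := ⟨fun x => hcm x.2.2.2⟩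
          rw [Nat.card_of_isEmpty, mul_zero]
    refine (Finset.sum_le_sum fun p _ => h5 p).trans ?_
    rw [Finset.sum_add_distrib, Finset.sum_ite_eq' Finset.univ ((1, 1) : X × X), if_pos (Finset.mem_univ _)]
    refine Nat.add_le_add_left ?_ _
    rw [← Finset.sum_filter, Finset.sum_const, smul_eq_mul, hn, ← card_comm_eq_card_conjClasses_mul_card,
      Nat.card_eq_fintype_card, Fintype.card_subtype]
  have h7 : a * (n * q) ≤ a * (c * q + c * K * n) := by
    calc a * (n * q) = q * (a * n) := by ring
      _ ≤ q * (c * S) := Nat.mul_le_mul_left _ h2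
      _ = c * (q * S) := by ring
      _ ≤ c * (q * a + Nat.card (ConjClasses X) * n * a) := Nat.mul_le_mul_left _ h4
      _ ≤ c * (q * a + K * n * a) := by gcongr
      _ = a * (c * q + c * K * n) := by ring
  have h8 : n * q ≤ c * q + c * K * n := Nat.le_of_mul_le_mul_left h7 ha0
  have h9 : n * (c * K + 1) ≤ n * q := Nat.mul_le_mul_left _ hq
  nlinarith

end Count

open Cfsg.Agent.H704.S8 in
/-- **`Chief` from codimensions.** -/
theorem chief_of_codim {X : Type v} [Group X] [Finite X] {c K q : ℕ} (D : Set ℕ) (hc : 1 ≤ c)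
    (hk : Nat.card (ConjClasses X) ≤ K) (hq : c * K < q) (hX : c * q < Nat.card X)
    (hcod : ∀ (A : Type u) [AddCommGroup A] [Finite A] [DistribMulAction X A] (r : ℕ), r.Prime →
      (∀ x : A, r • x = 0) → (∀ x : A, (∀ g : X, g • x = x) → x = 0) → Nontrivial A →
      ∀ z : X, z ≠ 1 → q ≤ (fx A z).index) : Chief.{u} c D X := by
  intro Λ _ _ ρ h
  by_contra hne
  push Not at hne
  obtain ⟨x0, hx0⟩ := hne
  have hnt : Nontrivial Λ := ⟨x0, 1, hx0⟩
  obtain ⟨r, hr, hdvd⟩ := Nat.exists_prime_and_dvd (Finite.one_lt_card (α := Λ)).ne'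
  have : Fact r.Prime := ⟨hr⟩
  obtain ⟨y, hy⟩ := exists_prime_orderOf_dvd_card' r hdvd
  let S : Subgroup Λ := (powMonoidHom r : Λ →* Λ).ker
  have hS : ∀ x : Λ, x ∈ S ↔ x ^ r = 1 := fun x => Iff.rfl
  have hρ : ∀ (g : X) (x : Λ), x ∈ S → ρ g x ∈ S := by
    intro g x hx
    rw [hS, ← map_pow, (hS x).1 hx, map_one]
  let act : DistribMulAction X (Additive S) :=
    { smul := fun g a => Additive.ofMul ⟨ρ g (Additive.toMul a : S), hρ g _ (Additive.toMul a : S).2⟩
      one_smul := fun a => by
        apply Additive.toMul.injective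
        apply Subtype.ext
        show ρ 1 (Additive.toMul a : S) = _
        rw [map_one]; rfl
      mul_smul := fun g g' a => by
        apply Additive.toMul.injective
        apply Subtype.ext
        show ρ (g * g') (Additive.toMul a : S) = ρ g (ρ g' (Additive.toMul a : S))
        rw [map_mul]; rfl
      smul_zero := fun g => by
        apply Additive.toMul.injective
        apply Subtype.ext
        show ρ g 1 = 1
        rw [map_one]
      smul_add := fun g a b => by
        apply Additive.toMul.injective
        apply Subtype.ext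
        show ρ g ((Additive.toMul a : S) * (Additive.toMul b : S)) = ρ g _ * ρ g _
        rw [map_mul] }
  have hval : ∀ (g : X) (a : Additive S), ((Additive.toMul (g • a) : S) : Λ) = ρ g (Additive.toMul a : S) := fun _ _ => rfl
  have hfix : ∀ (g : X) (a : Additive S), g • a = a ↔ ρ g ((Additive.toMul a : S) : Λ) = (Additive.toMul a : S) := by
    intro g a
    constructor
    · intro h1
      rw [← hval, h1]
    · intro h1
      apply Additive.toMul.injective
      apply Subtype.ext
      rw [hval, h1]
  have hne0 : ∀ a : Additive S, a ≠ 0 → ((Additive.toMul a : S) : Λ) ≠ 1 := by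
    intro a ha h1
    apply ha
    apply Additive.toMul.injective
    apply Subtype.ext
    exact h1
  have hA : Nontrivial (Additive S) := by
    refine ⟨Additive.ofMul ⟨y, (hS y).2 (by rw [← hy]; exact pow_orderOf_eq_one y)⟩, 0, ?_⟩
    intro h1
    have h2 : y = 1 := congrArg (fun a : Additive S => ((Additive.toMul a : S) : Λ)) h1
    rw [h2, orderOf_one] at hy
    exact hr.one_lt.ne hy
  have hT : ∀ x : Additive S, x ≠ 0 → MulAction.stabilizer X x ≠ ⊤ ∧ Nat.card X ≤
      c * (Nat.card (MulAction.stabilizer X x) * Nat.card (ConjClasses (MulAction.stabilizer X x))) := by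
    intro x hx
    obtain ⟨T, hT, hTt, hcard, -⟩ := h _ (hne0 x hx)
    have e : T = MulAction.stabilizer X x := by
      ext g
      rw [hT, MulAction.mem_stabilizer_iff, hfix]
    subst e
    exact ⟨hTt, hcard.le⟩
  refine count hc hk (hcod (Additive S) r hr ?_ ?_ hA) hq hX fun x hx => (hT x hx).2
  · intro x
    apply Additive.toMul.injective
    apply Subtype.ext
    exact (hS _).1 (Additive.toMul x : S).2
  · intro x hx
    by_contra hx0
    apply (hT x hx0).1
    rw [eq_top_iff]
    intro g _
    exact hx g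

end Cfsg.Agent.H320.SD
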