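import Cfsg.Agent.H704.S8.Defs

/-!
# Codimensions of fixed spaces and the property `Chief` of S4908 (helper320)

* `index_mul`, `index_conj`, `index_inv` : the index of the fixed points;
* `step3`, `step2` : extraspecial groups acting on an abelian group;
* `chief_of_codim` : `|A : C_A(z)| > c k(X)` for all `z ≠ 1` and all fixed point free actions implies `Chief c D X`.
-/

set_option autoImplicit false
set_option linter.unusedSectionVars false

namespace Cfsg.Agent.H320.SD

open Cfsg

universe u v

section Fix

variable {X : Type v} [Group X] {A : Type u} [AddCommGroup A] [DistribMulAction X A]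

/-- the fixed points of `g` -/
def fx (A : Type u) [AddCommGroup A] [DistribMulAction X A] (g : X) : AddSubgroup A where
  carrier := {x | g • x = x}
  zero_mem' := smul_zero g
  add_mem' := by
    intro a b ha hb
    show g • (a + b) = a + b
    rw [smul_add, show g • a = a from ha, show g • b = b from hb]
  neg_mem' := by
    intro a ha
    show g • (-a) = -a
    rw [smul_neg, show g • a = a from ha]

theorem mem_fx {g : X} {x : A} : x ∈ fx A g ↔ g • x = x := Iff.rfl

variable [Finite A]

theorem index_mul (a b : X) : (fx A (a * b)).index ≤ (fx A a).index * (fx A b).index := by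
  have h1 : fx A a ⊓ fx A b ≤ fx A (a * b) := by
    rintro x ⟨h1, h2⟩
    rw [mem_fx, mul_smul, mem_fx.1 h2, mem_fx.1 h1]
  exact (AddSubgroup.index_antitone h1).trans AddSubgroup.index_inf_le

theorem index_eq_of_card {g h : X} (e : fx A g ≃ fx A h) : (fx A g).index = (fx A h).index := by
  have h1 := AddSubgroup.card_mul_index (fx A g)
  have h2 := AddSubgroup.card_mul_index (fx A h)
  rw [Nat.card_congr e, ← h2] at h1
  exact Nat.eq_of_mul_eq_mul_left Nat.card_pos h1

theorem index_conj (g h : X) : (fx A (h * g * h⁻¹)).index = (fx A g).index := by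
  refine index_eq_of_card ⟨fun x => ⟨h⁻¹ • (x : A), ?_⟩, fun x => ⟨h • (x : A), ?_⟩, fun x => ?_, fun x => ?_⟩
  · have h1 : (h * g * h⁻¹) • (x : A) = x := x.2
    rw [mem_fx]
    conv_rhs => rw [← h1]
    rw [← mul_smul, ← mul_smul]
    congr 1; group
  · have h1 : g • (x : A) = x := x.2
    rw [mem_fx, mul_smul, inv_smul_smul, mul_smul, h1]
  · apply Subtype.ext; exact smul_inv_smul _ _
  · apply Subtype.ext; exact inv_smul_smul _ _

theorem index_inv (g : X) : (fx A g⁻¹).index = (fx A g).index := by
  congr 1
  ext x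
  rw [mem_fx, mem_fx, inv_smul_eq_iff, eq_comm]

/-- if `b` is a product of a conjugate of `z` and a conjugate of `z⁻¹` -/
theorem index_comm (z t : X) : (fx A (z * (t * z⁻¹ * t⁻¹))).index ≤ (fx A z).index ^ 2 := by
  refine (index_mul _ _).trans ?_
  rw [index_conj, index_inv, sq]

end Fix

section Steps

variable {X : Type v} [Group X] {A : Type u} [AddCommGroup A] [DistribMulAction X A] [Finite A]

theorem inj3 {α β : Type*} [Finite β] (f : α × α × α → β) (hf : Function.Injective f) : Nat.card α ^ 3 ≤ Nat.card β := by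
  have := Nat.card_le_card_of_injective f hf
  rw [Nat.card_prod, Nat.card_prod] at this
  calc Nat.card α ^ 3 = Nat.card α * (Nat.card α * Nat.card α) := by ring
    _ ≤ _ := this

theorem inj2 {α β : Type*} [Finite β] (f : α × α → β) (hf : Function.Injective f) : Nat.card α ^ 2 ≤ Nat.card β := by
  have := Nat.card_le_card_of_injective f hf
  rw [Nat.card_prod] at this
  rwa [sq]

/-- one step for an extraspecial 3-group -/
theorem step3 {u v z : X} (N : AddSubgroup A) (hz : ∀ x ∈ N, x + z • x + z • z • x = 0)
    (h3 : ∀ x ∈ N, x + x + x = 0 → x = 0)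
    (hu : ∀ x ∈ N, u • x ∈ N) (hv : ∀ x ∈ N, v • x ∈ N)
    (u3 : u * u * u = 1) (z3 : z * z * z = 1) (huz : u * z = z * u) (hvz : v * z = z * v) (hvu : v * u = u * (z * v))
    (hN : N ≠ ⊥) : N ⊓ fx A u ≠ ⊥ ∧ Nat.card (N ⊓ fx A u : AddSubgroup A) ^ 3 ≤ Nat.card N := by
  have huv : u * v = z * (z * (v * u)) := by
    rw [hvu]
    calc u * v = (z * z * z) * (u * v) := by rw [z3, one_mul]
      _ = z * (z * ((z * u) * v)) := by group
      _ = z * (z * (u * (z * v))) := by rw [← huz]; group
  have e3 : ∀ x : A, z • z • z • x = x := fun x => by rw [← mul_smul, ← mul_smul, z3, one_smul]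
  have eu3 : ∀ x : A, u • u • u • x = x := fun x => by rw [← mul_smul, ← mul_smul, u3, one_smul]
  have cu : ∀ x : A, u • z • x = z • u • x := fun x => by rw [← mul_smul, huz, mul_smul]
  have cv : ∀ x : A, v • z • x = z • v • x := fun x => by rw [← mul_smul, hvz, mul_smul]
  have cuv : ∀ x : A, u • v • x = z • z • v • u • x := fun x => by
    rw [← mul_smul, huv, mul_smul, mul_smul, mul_smul]
  constructor
  · intro h0
    apply hN
    rw [eq_bot_iff]
    intro x hx
    have W : ∀ y ∈ N, y + u • y + u • u • y = 0 := by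
      intro y hy
      have h1 : y + u • y + u • u • y ∈ N ⊓ fx A u := by
        refine ⟨add_mem (add_mem hy (hu _ hy)) (hu _ (hu _ hy)), ?_⟩
        show u • (y + u • y + u • u • y) = _
        rw [smul_add, smul_add, eu3]
        abel
      rw [h0] at h1
      exact h1
    have w0 := W x hx
    have w1 := W _ (hv _ hx)
    have w2 := W _ (hv _ (hv _ hx))
    have a1 : u • v • x = v • z • z • u • x := by rw [cuv, cv, cv]
    have a2 : u • u • v • x = v • z • u • u • x := by
      rw [a1, cuv]
      simp only [cu, cv, e3]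
    have b1 : u • v • v • x = v • v • z • u • x := by
      rw [cuv, a1]
      simp only [cv, e3]
    have b2 : u • u • v • v • x = v • v • z • z • u • u • x := by
      rw [b1, cuv, cuv]
      simp only [cu, cv, e3]
    have w1' : x + z • z • u • x + z • u • u • x = 0 := by
      have : v • (x + z • z • u • x + z • u • u • x) = 0 := by
        rw [smul_add, smul_add, ← a1, ← a2]; exact w1
      have h := congrArg (fun y => v⁻¹ • y) this
      simpa only [inv_smul_smul, smul_zero] using h
    have w2' : x + z • u • x + z • z • u • u • x = 0 := by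
      have : v • v • (x + z • u • x + z • z • u • u • x) = 0 := by
        rw [smul_add, smul_add, smul_add, smul_add, ← b1, ← b2]; exact w2
      have h := congrArg (fun y => v⁻¹ • v⁻¹ • y) this
      simpa only [inv_smul_smul, smul_zero] using h
    have z1 := hz _ (hu _ hx)
    have z2 := hz _ (hu _ (hu _ hx))
    have s : x + x + x = 0 := by
      have e : x + x + x = (x + u • x + u • u • x) + (x + z • z • u • x + z • u • u • x) +
          (x + z • u • x + z • z • u • u • x) - (u • x + z • u • x + z • z • u • x) -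
          (u • u • x + z • u • u • x + z • z • u • u • x) := by abel
      rw [e, w0, w1', w2', z1, z2]
      simp
    exact h3 x hx s
  · let f : (N ⊓ fx A u : AddSubgroup A) × (N ⊓ fx A u : AddSubgroup A) × (N ⊓ fx A u : AddSubgroup A) → N :=
      fun p => ⟨(p.1 : A) + v • (p.2.1 : A) + v • v • (p.2.2 : A),
        add_mem (add_mem p.1.2.1 (hv _ p.2.1.2.1)) (hv _ (hv _ p.2.2.2.1))⟩
    apply inj3 f
    have key : ∀ x y w : A, x ∈ N → y ∈ N → w ∈ N → u • x = x → u • y = y → u • w = w →
        x + v • y + v • v • w = 0 → x = 0 := by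
      intro x y w hx hy hw ux uy uw h
      have a1 : u • v • y = z • z • v • y := by rw [cuv, uy]
      have a2 : u • v • v • w = z • v • v • w := by
        rw [cuv, cuv, uw]
        simp only [cv, e3]
      have h1 : x + z • z • v • y + z • v • v • w = 0 := by
        have := congrArg (fun t => u • t) h
        simpa only [smul_add, smul_zero, ux, a1, a2] using this
      have h2 : x + z • v • y + z • z • v • v • w = 0 := by
        have := congrArg (fun t => u • t) h1
        simp only [smul_add, smul_zero, ux, cu, a1, a2, e3] at this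
        exact this
      have z1 := hz _ (hv _ hy)
      have z2 := hz _ (hv _ (hv _ hw))
      apply h3 x hx
      have e : x + x + x = (x + v • y + v • v • w) + (x + z • z • v • y + z • v • v • w) +
          (x + z • v • y + z • z • v • v • w) - (v • y + z • v • y + z • z • v • y) -
          (v • v • w + z • v • v • w + z • z • v • v • w) := by abel
      rw [e, h, h1, h2, z1, z2]
      simp
    intro p q hpq
    have h0 : ((p.1 : A) - q.1) + v • ((p.2.1 : A) - q.2.1) + v • v • ((p.2.2 : A) - q.2.2) = 0 := by
      have h1 := congrArg Subtype.val hpq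
      have h2 : (p.1 : A) + v • (p.2.1 : A) + v • v • (p.2.2 : A) = (q.1 : A) + v • (q.2.1 : A) + v • v • (q.2.2 : A) := h1
      rw [smul_sub, smul_sub, smul_sub]
      rw [← sub_eq_zero] at h2
      rw [← h2]; abel
    have fixd : ∀ a b : (N ⊓ fx A u : AddSubgroup A), u • ((a : A) - b) = (a : A) - b := by
      intro a b
      rw [smul_sub, mem_fx.1 a.2.2, mem_fx.1 b.2.2]
    have memd : ∀ a b : (N ⊓ fx A u : AddSubgroup A), ((a : A) - b) ∈ N := fun a b => sub_mem a.2.1 b.2.1
    have k1 := key _ _ _ (memd p.1 q.1) (memd p.2.1 q.2.1) (memd p.2.2 q.2.2) (fixd _ _) (fixd _ _) (fixd _ _) h0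
    rw [k1, zero_add, ← smul_add] at h0
    have h0' : ((p.2.1 : A) - q.2.1) + v • ((p.2.2 : A) - q.2.2) + v • v • (0 : A) = 0 := by
      have h := congrArg (fun y => v⁻¹ • y) h0
      simp only [inv_smul_smul, smul_zero] at h
      rw [smul_zero, smul_zero, add_zero, h]
    have k2 := key _ _ _ (memd p.2.1 q.2.1) (memd p.2.2 q.2.2) N.zero_mem (fixd _ _) (fixd _ _) (smul_zero _) h0'
    rw [k2, zero_add, smul_zero, smul_zero, add_zero] at h0'
    have k3 : (p.2.2 : A) - q.2.2 = 0 := by
      have h := congrArg (fun y => v⁻¹ • y) h0'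
      simpa only [inv_smul_smul, smul_zero] using h
    exact Prod.ext (Subtype.ext (sub_eq_zero.1 k1)) (Prod.ext (Subtype.ext (sub_eq_zero.1 k2)) (Subtype.ext (sub_eq_zero.1 k3)))

/-- one step for an extraspecial 2-group -/
theorem step2 {u v z : X} (N : AddSubgroup A) (hz : ∀ x ∈ N, x + z • x = 0)
    (h2 : ∀ x ∈ N, x + x = 0 → x = 0)
    (hu : ∀ x ∈ N, u • x ∈ N) (hv : ∀ x ∈ N, v • x ∈ N)
    (u2 : u * u = 1) (huz : u * z = z * u) (hvz : v * z = z * v) (hvu : v * u = u * (z * v))
    (z2 : z * z = 1) (hN : N ≠ ⊥) : N ⊓ fx A u ≠ ⊥ ∧ Nat.card (N ⊓ fx A u : AddSubgroup A) ^ 2 ≤ Nat.card N := by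
  have huv : u * v = z * (v * u) := by
    rw [hvu]
    calc u * v = (z * z) * (u * v) := by rw [z2, one_mul]
      _ = z * ((z * u) * v) := by group
      _ = z * (u * (z * v)) := by rw [← huz]; group
  have eu2 : ∀ x : A, u • u • x = x := fun x => by rw [← mul_smul, u2, one_smul]
  have cu : ∀ x : A, u • z • x = z • u • x := fun x => by rw [← mul_smul, huz, mul_smul]
  have cv : ∀ x : A, v • z • x = z • v • x := fun x => by rw [← mul_smul, hvz, mul_smul]
  have cuv : ∀ x : A, u • v • x = z • v • u • x := fun x => by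
    rw [← mul_smul, huv, mul_smul, mul_smul]
  constructor
  · intro h0
    apply hN
    rw [eq_bot_iff]
    intro x hx
    have W : ∀ y ∈ N, y + u • y = 0 := by
      intro y hy
      have h1 : y + u • y ∈ N ⊓ fx A u := by
        refine ⟨add_mem hy (hu _ hy), ?_⟩
        show u • (y + u • y) = _
        rw [smul_add, eu2]
        abel
      rw [h0] at h1
      exact h1
    have w0 := W x hx
    have w1 := W _ (hv _ hx)
    have a1 : u • v • x = v • z • u • x := by rw [cuv, cv]
    have w1' : x + z • u • x = 0 := by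
      have : v • (x + z • u • x) = 0 := by
        rw [smul_add, ← a1]; exact w1
      have h := congrArg (fun y => v⁻¹ • y) this
      simpa only [inv_smul_smul, smul_zero] using h
    have z1 := hz _ (hu _ hx)
    have s : x + x = 0 := by
      have e : x + x = (x + u • x) + (x + z • u • x) - (u • x + z • u • x) := by abel
      rw [e, w0, w1', z1]
      simp
    exact h2 x hx s
  · let f : (N ⊓ fx A u : AddSubgroup A) × (N ⊓ fx A u : AddSubgroup A) → N :=
      fun p => ⟨(p.1 : A) + v • (p.2 : A), add_mem p.1.2.1 (hv _ p.2.2.1)⟩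
    apply inj2 f
    have key : ∀ x y : A, x ∈ N → y ∈ N → u • x = x → u • y = y → x + v • y = 0 → x = 0 := by
      intro x y hx hy ux uy h
      have h1 : x + z • v • y = 0 := by
        have := congrArg (fun t => u • t) h
        simpa only [smul_add, smul_zero, ux, cuv, uy] using this
      have z1 := hz _ (hv _ hy)
      apply h2 x hx
      have e : x + x = (x + v • y) + (x + z • v • y) - (v • y + z • v • y) := by abel
      rw [e, h, h1, z1]
      simp
    intro p q hpq
    have h0 : ((p.1 : A) - q.1) + v • ((p.2 : A) - q.2) = 0 := by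
      have h1 := congrArg Subtype.val hpq
      have h2 : (p.1 : A) + v • (p.2 : A) = (q.1 : A) + v • (q.2 : A) := h1
      rw [smul_sub]
      rw [← sub_eq_zero] at h2
      rw [← h2]; abel
    have fixd : ∀ a b : (N ⊓ fx A u : AddSubgroup A), u • ((a : A) - b) = (a : A) - b := by
      intro a b
      rw [smul_sub, mem_fx.1 a.2.2, mem_fx.1 b.2.2]
    have memd : ∀ a b : (N ⊓ fx A u : AddSubgroup A), ((a : A) - b) ∈ N := fun a b => sub_mem a.2.1 b.2.1
    have k1 := key _ _ (memd p.1 q.1) (memd p.2 q.2) (fixd _ _) (fixd _ _) h0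
    rw [k1, zero_add] at h0
    have k3 : (p.2 : A) - q.2 = 0 := by
      have h := congrArg (fun y => v⁻¹ • y) h0
      simpa only [inv_smul_smul, smul_zero] using h
    exact Prod.ext (Subtype.ext (sub_eq_zero.1 k1)) (Subtype.ext (sub_eq_zero.1 k3))

/-- the commutator `[A, z]` -/
def cm (A : Type u) [AddCommGroup A] [DistribMulAction X A] (z : X) : AddSubgroup A :=
  (AddMonoidHom.mk' (fun x : A => x - z • x) fun a b => by rw [smul_add]; abel).range

theorem mem_cm {z : X} {x : A} : x ∈ cm A z ↔ ∃ y : A, y - z • y = x := Iff.rfl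

theorem index_fx (z : X) : (fx A z).index = Nat.card (cm A z) := by
  rw [cm, ← AddSubgroup.index_ker]
  congr 1
  ext x
  rw [mem_fx, AddMonoidHom.mem_ker]
  show z • x = x ↔ x - z • x = 0
  rw [sub_eq_zero, eq_comm]

theorem smul_cm {z g : X} (h : g * z = z * g) {x : A} (hx : x ∈ cm A z) : g • x ∈ cm A z := by
  obtain ⟨y, rfl⟩ := mem_cm.1 hx
  refine mem_cm.2 ⟨g • y, ?_⟩
  rw [smul_sub, ← mul_smul, ← mul_smul, h]

theorem cm3 {z : X} (z3 : z * z * z = 1) {x : A} (hx : x ∈ cm A z) : x + z • x + z • z • x = 0 := by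
  obtain ⟨y, rfl⟩ := mem_cm.1 hx
  have e : z • z • z • y = y := by rw [← mul_smul, ← mul_smul, z3, one_smul]
  rw [smul_sub, smul_sub, e]
  abel

theorem cm2 {z : X} (z2 : z * z = 1) {x : A} (hx : x ∈ cm A z) : x + z • x = 0 := by
  obtain ⟨y, rfl⟩ := mem_cm.1 hx
  have e : z • z • y = y := by rw [← mul_smul, z2, one_smul]
  rw [smul_sub, e]
  abel

/-- a nontrivial group with a fixed point free automorphism of order three has at least four elements -/
theorem four_le {z : X} (N : AddSubgroup A) (hz : ∀ x ∈ N, x + z • x + z • z • x = 0)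
    (h3 : ∀ x ∈ N, x + x + x = 0 → x = 0) (hzN : ∀ x ∈ N, z • x ∈ N) (z3 : z * z * z = 1) (hN : N ≠ ⊥) :
    4 ≤ Nat.card N := by
  classical
  obtain ⟨x, hx, hx0⟩ : ∃ x : A, x ∈ N ∧ x ≠ 0 := by
    obtain ⟨a, ha⟩ := AddSubgroup.ne_bot_iff_exists_ne_zero.1 hN
    exact ⟨a, a.2, fun h => ha (Subtype.ext h)⟩
  have e3 : ∀ x : A, z • z • z • x = x := fun x => by rw [← mul_smul, ← mul_smul, z3, one_smul]
  have h1 : z • (x : A) ≠ x := by
    intro h
    have := hz _ hx
    rw [h, h] at this
    exact hx0 (h3 _ hx this)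
  have h2 : z • z • (x : A) ≠ x := by
    intro h
    apply h1
    have := e3 (x : A)
    rw [h] at this
    exact this
  have h4 : z • z • (x : A) ≠ z • (x : A) := by
    intro h
    exact h1 (smul_left_cancel z h)
  have n1 : z • (x : A) ≠ 0 := fun h => hx0 (by rwa [smul_eq_zero_iff_eq] at h)
  have n2 : z • z • (x : A) ≠ 0 := fun h => n1 (by rwa [smul_eq_zero_iff_eq] at h)
  have : Fintype N := Fintype.ofFinite N
  rw [Nat.card_eq_fintype_card]
  let S : Finset N := {0, ⟨x, hx⟩, ⟨z • (x : A), hzN _ hx⟩, ⟨z • z • (x : A), hzN _ (hzN _ hx)⟩}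
  have hS : S.card = 4 := by
    rw [Finset.card_insert_of_notMem, Finset.card_insert_of_notMem, Finset.card_insert_of_notMem, Finset.card_singleton]
    · intro h
      rw [Finset.mem_singleton] at h
      exact h4 (congrArg Subtype.val h).symm
    · intro h
      rw [Finset.mem_insert, Finset.mem_singleton] at h
      rcases h with h | h
      · exact h1 (congrArg Subtype.val h).symm
      · exact h2 (congrArg Subtype.val h).symm
    · intro h
      rw [Finset.mem_insert, Finset.mem_insert, Finset.mem_singleton] at h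
      rcases h with h | h | h
      · exact hx0 (congrArg Subtype.val h).symm
      · exact n1 (congrArg Subtype.val h).symm
      · exact n2 (congrArg Subtype.val h).symm
  rw [← hS]
  exact Finset.card_le_univ S

theorem two_le (N : AddSubgroup A) (hN : N ≠ ⊥) : 2 ≤ Nat.card N := by
  have : Nontrivial N := (AddSubgroup.nontrivial_iff_ne_bot N).2 hN
  exact Finite.one_lt_card

end Steps

end Cfsg.Agent.H320.SD
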