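import Cfsg.Agent.H320.SD.Codim
import Cfsg.Agent.H867.Gen.FiTwentyTwo

/-!
# Codimensions in modules for `Fi22` (helper320, for S4908)

`2 × 2^(1+8)` with centre `⟨a, a c⟩` and `3^(1+6)` with centre generated by an element of class `3B`.
-/

set_option autoImplicit false
set_option maxRecDepth 100000
set_option exponentiation.threshold 5000
set_option linter.unusedSectionVars false
set_option linter.constructorNameAsVariable false
set_option linter.style.longLine false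

namespace Cfsg.Agent.H320.SD

open Cfsg

universe u v

section Chains

variable {X : Type v} [Group X] {A : Type u} [AddCommGroup A] [DistribMulAction X A] [Finite A]

theorem pres_inf {g u : X} {N : AddSubgroup A} (h : g * u = u * g) (hg : ∀ x ∈ N, g • x ∈ N) :
    ∀ x ∈ N ⊓ fx A u, g • x ∈ N ⊓ fx A u := by
  rintro x ⟨h1, h2⟩
  refine ⟨hg x h1, ?_⟩
  show u • g • x = g • x
  rw [← mul_smul, ← h, mul_smul, mem_fx.1 h2]

theorem chain2 {z : X} (z2 : z * z = 1) : ∀ (L : List (X × X)) (N : AddSubgroup A), N ≠ ⊥ →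
    (∀ x ∈ N, x + z • x = 0) → (∀ x ∈ N, x + x = 0 → x = 0) →
    (∀ p ∈ L, (∀ x ∈ N, p.1 • x ∈ N) ∧ (∀ x ∈ N, p.2 • x ∈ N)) →
    (∀ p ∈ L, p.1 * p.1 = 1 ∧ p.1 * z = z * p.1 ∧ p.2 * z = z * p.2 ∧ p.2 * p.1 = p.1 * (z * p.2)) →
    L.Pairwise (fun p q => q.1 * p.1 = p.1 * q.1 ∧ q.2 * p.1 = p.1 * q.2) → 2 ^ (2 ^ L.length) ≤ Nat.card N := by
  intro L
  induction L with
  | nil =>
    intro N hN _ _ _ _ _
    exact two_le N hN
  | cons p L ih =>
    intro N hN hz h2 hpres hrel hpw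
    obtain ⟨r1, r2, r3, r4⟩ := hrel p (List.mem_cons_self ..)
    obtain ⟨q1, q2⟩ := hpres p (List.mem_cons_self ..)
    obtain ⟨k1, k2⟩ := step2 N hz h2 q1 q2 r1 r2 r3 r4 z2 hN
    rw [List.pairwise_cons] at hpw
    have k3 := ih (N ⊓ fx A p.1) k1 (fun x hx => hz x hx.1) (fun x hx => h2 x hx.1)
      (fun q hq => ⟨pres_inf (hpw.1 q hq).1 (hpres q (List.mem_cons_of_mem _ hq)).1,
        pres_inf (hpw.1 q hq).2 (hpres q (List.mem_cons_of_mem _ hq)).2⟩)
      (fun q hq => hrel q (List.mem_cons_of_mem _ hq)) hpw.2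
    rw [List.length_cons]
    calc 2 ^ (2 ^ (L.length + 1)) = (2 ^ (2 ^ L.length)) ^ 2 := by rw [← pow_mul, pow_succ]
      _ ≤ Nat.card (N ⊓ fx A p.1 : AddSubgroup A) ^ 2 := Nat.pow_le_pow_left k3 2
      _ ≤ _ := k2

theorem chain3 {z : X} (z3 : z * z * z = 1) : ∀ (L : List (X × X)) (N : AddSubgroup A), N ≠ ⊥ →
    (∀ x ∈ N, x + z • x + z • z • x = 0) → (∀ x ∈ N, x + x + x = 0 → x = 0) → (∀ x ∈ N, z • x ∈ N) →
    (∀ p ∈ L, (∀ x ∈ N, p.1 • x ∈ N) ∧ (∀ x ∈ N, p.2 • x ∈ N)) →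
    (∀ p ∈ L, p.1 * p.1 * p.1 = 1 ∧ p.1 * z = z * p.1 ∧ p.2 * z = z * p.2 ∧ p.2 * p.1 = p.1 * (z * p.2)) →
    L.Pairwise (fun p q => q.1 * p.1 = p.1 * q.1 ∧ q.2 * p.1 = p.1 * q.2) → 4 ^ (3 ^ L.length) ≤ Nat.card N := by
  intro L
  induction L with
  | nil =>
    intro N hN hz h3 hzN _ _ _
    exact four_le N hz h3 hzN z3 hN
  | cons p L ih =>
    intro N hN hz h3 hzN hpres hrel hpw
    obtain ⟨r1, r2, r3, r4⟩ := hrel p (List.mem_cons_self ..)
    obtain ⟨q1, q2⟩ := hpres p (List.mem_cons_self ..)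
    obtain ⟨k1, k2⟩ := step3 N hz h3 q1 q2 r1 z3 r2 r3 r4 hN
    rw [List.pairwise_cons] at hpw
    have k3 := ih (N ⊓ fx A p.1) k1 (fun x hx => hz x hx.1) (fun x hx => h3 x hx.1) (pres_inf r2.symm hzN)
      (fun q hq => ⟨pres_inf (hpw.1 q hq).1 (hpres q (List.mem_cons_of_mem _ hq)).1,
        pres_inf (hpw.1 q hq).2 (hpres q (List.mem_cons_of_mem _ hq)).2⟩)
      (fun q hq => hrel q (List.mem_cons_of_mem _ hq)) hpw.2
    rw [List.length_cons]
    calc 4 ^ (3 ^ (L.length + 1)) = (4 ^ (3 ^ L.length)) ^ 3 := by rw [← pow_mul, pow_succ]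
      _ ≤ Nat.card (N ⊓ fx A p.1 : AddSubgroup A) ^ 3 := Nat.pow_le_pow_left k3 3
      _ ≤ _ := k2

/-- nontrivial elements of a simple group act nontrivially -/
theorem cm_ne_bot [IsSimpleGroup X] [Nontrivial A] (hfix : ∀ x : A, (∀ g : X, g • x = x) → x = 0) {z : X} (hz : z ≠ 1) :
    cm A z ≠ ⊥ := by
  intro h
  let φ : X →* AddMonoid.End A := DistribMulAction.toAddMonoidEnd X A
  have hφ : ∀ (g : X) (x : A), φ g x = g • x := fun _ _ => rfl
  have hz' : z ∈ φ.ker := by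
    rw [MonoidHom.mem_ker]
    ext x
    have h1 : x - z • x ∈ cm A z := ⟨x, rfl⟩
    rw [h, AddSubgroup.mem_bot, sub_eq_zero] at h1
    exact h1.symm
  have hk : φ.ker = ⊤ := by
    rcases (inferInstance : φ.ker.Normal).eq_bot_or_eq_top with h1 | h1
    · rw [h1, Subgroup.mem_bot] at hz'
      exact absurd hz' hz
    · exact h1
  obtain ⟨x, y, hxy⟩ := (inferInstance : Nontrivial A)
  have key : ∀ x : A, x = 0 := fun x => hfix x fun g => by
    have h1 : g ∈ φ.ker := by rw [hk]; trivial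
    rw [MonoidHom.mem_ker] at h1
    rw [← hφ, h1]; rfl
  exact hxy ((key x).trans (key y).symm)

theorem inj_three {r : ℕ} (hr : r.Prime) (h3 : r ≠ 3) (hexp : ∀ x : A, r • x = 0) (x : A) (h : x + x + x = 0) : x = 0 := by
  have h1 : (3 : ℕ) • x = 0 := by rw [← h]; abel
  have h2 : addOrderOf x ∣ Nat.gcd 3 r := Nat.dvd_gcd (addOrderOf_dvd_of_nsmul_eq_zero h1) (addOrderOf_dvd_of_nsmul_eq_zero (hexp x))
  rw [(Nat.coprime_primes Nat.prime_three hr).2 h3.symm, Nat.dvd_one, AddMonoid.addOrderOf_eq_one_iff] at h2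
  exact h2

theorem inj_two (hexp : ∀ x : A, 3 • x = 0) (x : A) (h : x + x = 0) : x = 0 := by
  have h1 : (3 : ℕ) • x = x + x + x := by abel
  rw [hexp, h, zero_add] at h1
  exact h1.symm

end Chains

end Cfsg.Agent.H320.SD

namespace Cfsg.Agent.H320.SD.Fi

open Cfsg Subgroup Cfsg.Spor Cfsg.Spor.Fi22 Cfsg.Agent.Lib.PermNet Cfsg.Agent.Lib.PermNetOrbit Cfsg.Agent.Lib.PermNetFix
open Cfsg.Agent.Fischer Cfsg.Agent.Fischer.Fi22PtsRep
open Cfsg.Agent.H834 Cfsg.Agent.H834.AC Cfsg.Agent.H867.SprFi22 Cfsg.Agent.H867.Gen.FiTwentyTwo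

universe u

/-- transpositions -/
def t1 : List Gen := [.c, .d, .h, .i, .e, .d, .h, .f, .e, .d, .c, .d, .e, .f, .h, .d, .e, .i, .h, .d, .c]
def t4 : List Gen := [.d, .h, .i, .e, .d, .h, .f, .e, .d, .c, .b, .c, .d, .e, .f, .h, .d, .e, .i, .h, .d]
def t5 : List Gen := [.d, .c, .b, .c, .d]

/-- the class `3B` -/
def zB : List Gen := t1 ++ ([.b, .c] ++ t4)

/-- the class `2B` -/
def zA : List Gen := [.a, .c]

/-- the extraspecial group `3^(1+6)` -/
def l3 : List (List Gen × List Gen) := [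
  ([.h, .i],
    [.d, .e, .c, .d, .h, .f, .e, .d, .c, .b, .c, .d, .e, .f, .h, .d, .c, .e, .d, .i]),
  ([.f, .e],
    [.e, .d, .h, .i, .c, .d, .h, .e, .d, .c, .b, .c, .d, .e, .h, .d, .c, .i, .h, .d]),
  ([.b, .c],
    [.c, .d, .h, .i, .e, .d, .h, .f, .e, .d, .c, .d, .e, .f, .h, .d, .e, .i, .h, .d])]

/-- the group `2 × 2^(1+8)` -/
def l2 : List (List Gen × List Gen) := [
  ([.a],
    [.b, .a, .c, .b]),
  ([.e, .g],
    [.h, .i, .d, .h, .f, .e, .d, .c, .d, .e, .f, .h, .d, .i, .h, .f, .d, .e, .c, .d, .h, .i, .f, .e, .b, .c, .d, .h, .g, .f, .e, .d, .c, .b, .a, .b, .c, .d, .e, .f, .g, .h, .d, .c, .b, .e, .f, .i, .h, .d, .c, .e, .d, .f]),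
  ([.f, .e, .f, .g, .f, .g],
    [.i, .d, .h, .e, .d, .c, .d, .e, .h, .d, .i, .h, .d, .e, .c, .d, .h, .i, .f, .e, .b, .c, .d, .h, .g, .f, .e, .d, .c, .b, .a, .b, .c, .d, .e, .f, .g, .h, .d, .c, .b, .e, .f, .i, .h, .d, .c, .e, .d, .h]),
  ([.d, .h, .f, .e, .d, .c, .d, .e, .f, .h, .d, .e, .d, .h, .g, .f, .e, .d, .c, .d, .e, .f, .g, .h, .d, .e],
    [.i, .h, .d, .e, .f, .c, .d, .e, .b, .c, .d, .h, .g, .f, .e, .d, .c, .b, .a, .b, .c, .d, .e, .f, .g, .h, .d, .c, .b, .e, .d, .c, .f, .e, .d, .i]),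
  ([.i, .d, .h, .g, .f, .e, .d, .c, .d, .e, .f, .g, .h, .d, .e, .d, .h, .f, .e, .d, .c, .d, .e, .f, .h, .d, .e, .i],
    [.h, .d, .h, .e, .f, .d, .e, .b, .c, .d, .h, .g, .f, .e, .d, .c, .b, .a, .b, .c, .d, .e, .f, .g, .h, .d, .c, .b, .e, .d, .f, .e, .h, .d])]

/-- the checks of one pair -/
noncomputable def ok2 (z : List Gen) (p : List Gen × List Gen) : Bool :=
  and (eqB (p.1 ++ p.1) []) (and (eqB (p.1 ++ z) (z ++ p.1)) (and (eqB (p.2 ++ z) (z ++ p.2))
    (eqB (p.2 ++ p.1) (p.1 ++ (z ++ p.2)))))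

noncomputable def ok3 (z : List Gen) (p : List Gen × List Gen) : Bool :=
  and (eqB (p.1 ++ (p.1 ++ p.1)) []) (and (eqB (p.1 ++ z) (z ++ p.1)) (and (eqB (p.2 ++ z) (z ++ p.2))
    (eqB (p.2 ++ p.1) (p.1 ++ (z ++ p.2)))))

noncomputable def okx (p q : List Gen × List Gen) : Bool :=
  and (eqB (q.1 ++ p.1) (p.1 ++ q.1)) (eqB (q.2 ++ p.1) (p.1 ++ q.2))

noncomputable def pw (l : List (List Gen × List Gen)) : Bool :=
  List.rec (motive := fun _ => Bool) true (fun p l ih => and (l.all (okx p)) ih) l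

theorem chk2 : (l2.all (ok2 zA)) = true := by decide +kernel
theorem chk2x : pw l2 = true := by decide +kernel
theorem chk3 : (l3.all (ok3 zB)) = true := by decide +kernel
theorem chk3x : pw l3 = true := by decide +kernel
theorem chkz2 : eqB (zA ++ zA) [] = true := by decide +kernel
theorem chkz3 : eqB (zB ++ (zB ++ zB)) [] = true := by decide +kernel

/-- the value of a word -/
noncomputable abbrev W (w : List Gen) : Cfsg.Spor.Fi22 := mdl.wd w

theorem W_append (v w : List Gen) : W (v ++ w) = W v * W w := mdl.wd_append v w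

theorem W_eq {v w : List Gen} (h : eqB v w = true) : W v = W w := mdl.eq_of_eqB h

theorem ok2_spec {z : List Gen} {p : List Gen × List Gen} (h : ok2 z p = true) :
    W p.1 * W p.1 = 1 ∧ W p.1 * W z = W z * W p.1 ∧ W p.2 * W z = W z * W p.2 ∧ W p.2 * W p.1 = W p.1 * (W z * W p.2) := by
  unfold ok2 at h
  rw [Bool.and_eq_true, Bool.and_eq_true, Bool.and_eq_true] at h
  obtain ⟨h1, h2, h3, h4⟩ := h
  refine ⟨?_, ?_, ?_, ?_⟩
  · rw [← W_append, W_eq h1]; exact mdl.wd_nil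
  · rw [← W_append, ← W_append, W_eq h2]
  · rw [← W_append, ← W_append, W_eq h3]
  · rw [← W_append, ← W_append, ← W_append, W_eq h4]

theorem ok3_spec {z : List Gen} {p : List Gen × List Gen} (h : ok3 z p = true) :
    W p.1 * W p.1 * W p.1 = 1 ∧ W p.1 * W z = W z * W p.1 ∧ W p.2 * W z = W z * W p.2 ∧
      W p.2 * W p.1 = W p.1 * (W z * W p.2) := by
  unfold ok3 at h
  rw [Bool.and_eq_true, Bool.and_eq_true, Bool.and_eq_true] at h
  obtain ⟨h1, h2, h3, h4⟩ := h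
  refine ⟨?_, ?_, ?_, ?_⟩
  · rw [mul_assoc, ← W_append, ← W_append, W_eq h1]; exact mdl.wd_nil
  · rw [← W_append, ← W_append, W_eq h2]
  · rw [← W_append, ← W_append, W_eq h3]
  · rw [← W_append, ← W_append, ← W_append, W_eq h4]

theorem pw_spec {l : List (List Gen × List Gen)} (h : pw l = true) :
    (l.map fun p => (W p.1, W p.2)).Pairwise (fun p q => q.1 * p.1 = p.1 * q.1 ∧ q.2 * p.1 = p.1 * q.2) := by
  induction l with
  | nil => exact List.Pairwise.nil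
  | cons p l ih =>
    have h' : and (l.all (okx p)) (pw l) = true := h
    rw [Bool.and_eq_true] at h'
    rw [List.map_cons, List.pairwise_cons]
    refine ⟨?_, ih h'.2⟩
    intro q hq
    obtain ⟨q', hq', rfl⟩ := List.mem_map.1 hq
    have h1 := List.all_eq_true.1 h'.1 q' hq'
    unfold okx at h1
    rw [Bool.and_eq_true] at h1
    constructor
    · show W q'.1 * W p.1 = W p.1 * W q'.1
      rw [← W_append, ← W_append, W_eq h1.1]
    · show W q'.2 * W p.1 = W p.1 * W q'.2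
      rw [← W_append, ← W_append, W_eq h1.2]

theorem zA_sq : W zA * W zA = 1 := by rw [← W_append, W_eq chkz2]; exact mdl.wd_nil

theorem zB_cube : W zB * W zB * W zB = 1 := by
  rw [mul_assoc, ← W_append, ← W_append, W_eq chkz3]; exact mdl.wd_nil

/-- two words differ -/
theorem W_ne {v w : List Gen} (p : ℕ) (h : Nat.beq (ptWord (nw v) p) (ptWord (nw w) p) = false) : W v ≠ W w := by
  intro h2
  have h3 : mdl.φ (mdl.wd v) p = mdl.φ (mdl.wd w) p := by rw [show mdl.wd v = mdl.wd w from h2]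
  rw [mdl.φ_wd_apply, mdl.φ_wd_apply] at h3
  exact Nat.ne_of_beq_eq_false h h3

theorem not_comm {v w : List Gen} (p : ℕ) (h : Nat.beq (ptWord (nw (v ++ w)) p) (ptWord (nw (w ++ v)) p) = false) :
    ¬ Commute (W v) (W w) := by
  intro hc
  refine W_ne p h ?_
  rw [W_append, W_append]; exact hc.eq

theorem comm_of {v w : List Gen} (h : eqB (v ++ w) (w ++ v) = true) : Commute (W v) (W w) := by
  show W v * W w = W w * W v
  rw [← W_append, ← W_append, W_eq h]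

theorem mem_T (w : List Gen) (x : Gen) : W (w ++ x :: w.reverse) ∈ T := by
  have h1 : W (w ++ x :: w.reverse) = W w * gen x * (W w)⁻¹ := by
    rw [W_append]
    show W w * mdl.wd (x :: w.reverse) = _
    rw [mdl.wd_cons, mdl.wd_single, mdl.wd_reverse, mul_assoc]; rfl
  rw [h1]
  have h2 : IsConj (gen .a) (gen x) := Cfsg.Agent.R01.Fi22Facts.gen_mem x
  show IsConj _ _
  exact h2.trans (isConj_iff.2 ⟨_, rfl⟩)

theorem nontriv : W zA ≠ 1 ∧ W zB ≠ 1 := by
  constructor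
  · have := W_ne (v := zA) (w := []) 2 (by decide +kernel)
    rwa [show W [] = 1 from mdl.wd_nil] at this
  · have := W_ne (v := zB) (w := []) 0 (by decide +kernel)
    rwa [show W [] = 1 from mdl.wd_nil] at this

end Cfsg.Agent.H320.SD.Fi
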