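import Cfsg.Agent.H320.SD.FiA
import Cfsg.Agent.H320.SD.ChiefOf
import Cfsg.Agent.H878.EPX.FiK
import Cfsg.Agent.S1696

/-!
# `Chief 2 D Fi22` (helper320, for S4908)

Every nontrivial element has index at least `256` on every module without fixed points; `k(Fi22) ≤ 118`.
-/

set_option autoImplicit false
set_option maxRecDepth 100000
set_option exponentiation.threshold 5000
set_option linter.unusedSectionVars false
set_option linter.constructorNameAsVariable false
set_option linter.style.longLine false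

namespace Cfsg.Agent.H320.SD.Fi

open Cfsg Subgroup Cfsg.Spor Cfsg.Spor.Fi22 Cfsg.Agent.Lib.PermNet Cfsg.Agent.Lib.PermNetOrbit Cfsg.Agent.Lib.PermNetFix
open Cfsg.Agent.Fischer Cfsg.Agent.Fischer.Fi22PtsRep
open Cfsg.Agent.H834 Cfsg.Agent.H834.AC Cfsg.Agent.H867.SprFi22 Cfsg.Agent.H867.Gen.FiTwentyTwo

universe u v

theorem inst_simple : IsSimpleGroup Cfsg.Spor.Fi22 := Cfsg.Agent.S1696.result.1
theorem card_eq : Nat.card Cfsg.Spor.Fi22 = 64561751654400 := Cfsg.Agent.S1696.result.2
theorem inst_finite : Finite Cfsg.Spor.Fi22 := Nat.finite_of_card_ne_zero (by rw [card_eq]; norm_num)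

section Act

variable {A : Type u} [AddCommGroup A] [Finite A] [DistribMulAction Cfsg.Spor.Fi22 A]

/-- the index of the fixed points of a product of two commuting transpositions -/
theorem cc_eq {t t' : Cfsg.Spor.Fi22} (ht : t ∈ T) (ht' : t' ∈ T) (hne : t ≠ t') (hc : Commute t t') :
    (fx A (t * t')).index = (fx A (W [.a, .c])).index := by
  obtain ⟨g, h1, h2⟩ := Cfsg.Agent.R01.Fi22Facts.trans_commuting t ht t' ht' (gen .a)
    (Cfsg.Agent.R01.Fi22Facts.gen_mem .a) (gen .c) (Cfsg.Agent.R01.Fi22Facts.gen_mem .c) hne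
    (gen_ne (p := 2) (by decide +kernel)) hc (gen_comm (by decide))
  have e : W [.a, .c] = g * (t * t') * g⁻¹ := by
    show mdl.wd [.a, .c] = _
    rw [wd_pair, ← h1, ← h2]; group
  rw [e, index_conj]

theorem nc_eq {t t' : Cfsg.Spor.Fi22} (ht : t ∈ T) (ht' : t' ∈ T) (hc : ¬ Commute t t') :
    (fx A (t * t')).index = (fx A (W [.a, .b])).index := by
  have hab : ¬ Commute (gen .a) (gen .b) := by
    have := not_comm (v := [.a]) (w := [.b]) 0 (by decide +kernel)
    intro h
    apply this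
    show Commute (mdl.wd [.a]) (mdl.wd [.b])
    rw [mdl.wd_single, mdl.wd_single]
    exact h
  obtain ⟨g, h1, h2⟩ := Cfsg.Agent.R01.Fi22Facts.trans_noncommuting t ht t' ht' (gen .a)
    (Cfsg.Agent.R01.Fi22Facts.gen_mem .a) (gen .b) (Cfsg.Agent.R01.Fi22Facts.gen_mem .b) hc hab
  have e : W [.a, .b] = g * (t * t') * g⁻¹ := by
    show mdl.wd [.a, .b] = _
    rw [wd_pair, ← h1, ← h2]; group
  rw [e, index_conj]

/-- `a c = (a b)(b c)` -/
theorem ac_le : (fx A (W zA)).index ≤ (fx A (W [.a, .b])).index ^ 2 := by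
  have e : W zA = (W [.a] * W [.b]) * (W [.b] * W [.c]) := by
    rw [← W_append, ← W_append, ← W_append]
    exact W_eq (by decide +kernel)
  have h1 : (fx A (W [.a] * W [.b])).index = (fx A (W [.a, .b])).index :=
    nc_eq (mem_T [] .a) (mem_T [] .b) (not_comm (v := [.a]) (w := [.b]) 0 (by decide +kernel))
  have h2 : (fx A (W [.b] * W [.c])).index = (fx A (W [.a, .b])).index :=
    nc_eq (mem_T [] .b) (mem_T [] .c) (not_comm (v := [.b]) (w := [.c]) 2 (by decide +kernel))
  calc (fx A (W zA)).index = (fx A ((W [.a] * W [.b]) * (W [.b] * W [.c]))).index := by rw [e]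
    _ ≤ (fx A (W [.a] * W [.b])).index * (fx A (W [.b] * W [.c])).index := index_mul _ _
    _ = _ := by rw [h1, h2, sq]

/-- the class `3B` as a product of two elements of the class of `a b` -/
theorem zB_le_ab : (fx A (W zB)).index ≤ (fx A (W [.a, .b])).index ^ 2 := by
  have e : W zB = (W t1 * W [.b]) * (W [.c] * W t4) := by
    rw [← W_append, ← W_append, ← W_append]
    exact W_eq (by decide +kernel)
  have m1 : W t1 ∈ T := mem_T [.c, .d, .h, .i, .e, .d, .h, .f, .e, .d] .c
  have m4 : W t4 ∈ T := mem_T [.d, .h, .i, .e, .d, .h, .f, .e, .d, .c] .b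
  have h1 : (fx A (W t1 * W [.b])).index = (fx A (W [.a, .b])).index :=
    nc_eq m1 (mem_T [] .b) (not_comm (v := t1) (w := [.b]) 2 (by decide +kernel))
  have h2 : (fx A (W [.c] * W t4)).index = (fx A (W [.a, .b])).index :=
    nc_eq (mem_T [] .c) m4 (not_comm (v := [.c]) (w := t4) 6 (by decide +kernel))
  calc (fx A (W zB)).index = (fx A ((W t1 * W [.b]) * (W [.c] * W t4))).index := by rw [e]
    _ ≤ (fx A (W t1 * W [.b])).index * (fx A (W [.c] * W t4)).index := index_mul _ _
    _ = _ := by rw [h1, h2, sq]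

/-- the class `3B` as a product of three elements of the class of `a c` -/
theorem zB_le_ac : (fx A (W zB)).index ≤ (fx A (W [.a, .c])).index ^ 3 := by
  have e : W zB = (W t1 * W [.d]) * ((W [.d, .c, .d] * W [.c, .b, .c]) * (W t5 * W t4)) := by
    rw [← W_append, ← W_append, ← W_append, ← W_append, ← W_append]
    exact W_eq (by decide +kernel)
  have m1 : W t1 ∈ T := mem_T [.c, .d, .h, .i, .e, .d, .h, .f, .e, .d] .c
  have m4 : W t4 ∈ T := mem_T [.d, .h, .i, .e, .d, .h, .f, .e, .d, .c] .b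
  have m5 : W t5 ∈ T := mem_T [.d, .c] .b
  have h1 : (fx A (W t1 * W [.d])).index = (fx A (W [.a, .c])).index :=
    cc_eq m1 (mem_T [] .d) (W_ne (v := t1) (w := [.d]) 2 (by decide +kernel)) (comm_of (v := t1) (w := [.d]) (by decide +kernel))
  have h2 : (fx A (W [.d, .c, .d] * W [.c, .b, .c])).index = (fx A (W [.a, .c])).index :=
    cc_eq (mem_T [.d] .c) (mem_T [.c] .b) (W_ne (v := [.d, .c, .d]) (w := [.c, .b, .c]) 2 (by decide +kernel))
      (comm_of (v := [.d, .c, .d]) (w := [.c, .b, .c]) (by decide +kernel))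
  have h3 : (fx A (W t5 * W t4)).index = (fx A (W [.a, .c])).index :=
    cc_eq m5 m4 (W_ne (v := t5) (w := t4) 2 (by decide +kernel)) (comm_of (v := t5) (w := t4) (by decide +kernel))
  calc (fx A (W zB)).index = (fx A ((W t1 * W [.d]) * ((W [.d, .c, .d] * W [.c, .b, .c]) * (W t5 * W t4)))).index := by
        rw [e]
    _ ≤ (fx A (W t1 * W [.d])).index * (fx A ((W [.d, .c, .d] * W [.c, .b, .c]) * (W t5 * W t4))).index := index_mul _ _
    _ ≤ (fx A (W t1 * W [.d])).index * ((fx A (W [.d, .c, .d] * W [.c, .b, .c])).index * (fx A (W t5 * W t4)).index) :=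
      Nat.mul_le_mul_left _ (index_mul _ _)
    _ = _ := by rw [h1, h2, h3]; ring

theorem pow_lt_of {i N k m : ℕ} (hk : k ≠ 0) (h1 : m ^ k ≤ N) (h2 : N ≤ i ^ k) : m ≤ i :=
  (Nat.pow_le_pow_iff_left hk).1 (h1.trans h2)

variable [Nontrivial A]

/-- characteristic three -/
theorem cod3 (hexp : ∀ x : A, 3 • x = 0) (hfix : ∀ x : A, (∀ g : Cfsg.Spor.Fi22, g • x = x) → x = 0) :
    2 ^ 32 ≤ (fx A (W zA)).index := by
  have := inst_simple
  rw [index_fx]
  have h := chain2 (A := A) zA_sq (l2.map fun p => (W p.1, W p.2)) (cm A (W zA)) (cm_ne_bot hfix nontriv.1)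
    (fun x hx => cm2 zA_sq hx) (fun x _ h => inj_two hexp x h) ?_ ?_ (pw_spec chk2x)
  · exact h
  · intro p hp
    obtain ⟨q, hq, rfl⟩ := List.mem_map.1 hp
    obtain ⟨-, h2, h3, -⟩ := ok2_spec (List.all_eq_true.1 chk2 q hq)
    exact ⟨fun x hx => smul_cm h2 hx, fun x hx => smul_cm h3 hx⟩
  · intro p hp
    obtain ⟨q, hq, rfl⟩ := List.mem_map.1 hp
    exact ok2_spec (List.all_eq_true.1 chk2 q hq)

/-- other characteristics -/
theorem codr {r : ℕ} (hr : r.Prime) (h3 : r ≠ 3) (hexp : ∀ x : A, r • x = 0)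
    (hfix : ∀ x : A, (∀ g : Cfsg.Spor.Fi22, g • x = x) → x = 0) : 4 ^ 27 ≤ (fx A (W zB)).index := by
  have := inst_simple
  rw [index_fx]
  have h := chain3 (A := A) zB_cube (l3.map fun p => (W p.1, W p.2)) (cm A (W zB)) (cm_ne_bot hfix nontriv.2)
    (fun x hx => cm3 zB_cube hx) (fun x _ h => inj_three hr h3 hexp x h) (fun x hx => smul_cm rfl hx) ?_ ?_ (pw_spec chk3x)
  · exact h
  · intro p hp
    obtain ⟨q, hq, rfl⟩ := List.mem_map.1 hp
    obtain ⟨-, h2, h3, -⟩ := ok3_spec (List.all_eq_true.1 chk3 q hq)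
    exact ⟨fun x hx => smul_cm h2 hx, fun x hx => smul_cm h3 hx⟩
  · intro p hp
    obtain ⟨q, hq, rfl⟩ := List.mem_map.1 hp
    exact ok3_spec (List.all_eq_true.1 chk3 q hq)

theorem cod_b {r : ℕ} (hr : r.Prime) (hexp : ∀ x : A, r • x = 0)
    (hfix : ∀ x : A, (∀ g : Cfsg.Spor.Fi22, g • x = x) → x = 0) :
    256 ^ 2 ≤ (fx A (W [.a, .b])).index ∧ 256 ^ 2 ≤ (fx A (W [.a, .c])).index := by
  by_cases h3 : r = 3
  · subst h3
    have h1 := cod3 hexp hfix
    refine ⟨pow_lt_of (k := 2) (by norm_num) ?_ ac_le, ?_⟩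
    · exact le_trans (by norm_num) h1
    · exact le_trans (by norm_num) h1
  · have h1 := codr hr h3 hexp hfix
    refine ⟨pow_lt_of (k := 2) (by norm_num) ?_ zB_le_ab, pow_lt_of (k := 3) (by norm_num) ?_ zB_le_ac⟩
    · exact le_trans (by norm_num) h1
    · exact le_trans (by norm_num) h1

/-- **codimensions** -/
theorem cod {r : ℕ} (hr : r.Prime) (hexp : ∀ x : A, r • x = 0)
    (hfix : ∀ x : A, (∀ g : Cfsg.Spor.Fi22, g • x = x) → x = 0) {z : Cfsg.Spor.Fi22} (hz : z ≠ 1) :
    256 ≤ (fx A z).index := by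
  have := inst_simple
  have := inst_finite
  -- a transposition not commuting with `z`
  obtain ⟨t, ht, hzt⟩ : ∃ t ∈ T, z * t * z⁻¹ ≠ t := by
    by_contra hno
    push Not at hno
    apply hz
    have h1 : closure T ≤ centralizer ({z} : Set Cfsg.Spor.Fi22) := by
      rw [closure_le]
      intro t ht
      rw [SetLike.mem_coe, mem_centralizer_singleton_iff]
      have := hno t ht
      rw [mul_inv_eq_iff_eq_mul] at this
      exact this.symm
    rw [closure_T] at h1
    have h2 : z ∈ center Cfsg.Spor.Fi22 := by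
      rw [mem_center_iff]
      intro g
      exact (mem_centralizer_singleton_iff.1 (h1 (mem_top g)))
    rcases (inferInstance : (center Cfsg.Spor.Fi22).Normal).eq_bot_or_eq_top with h3 | h3
    · rw [h3, mem_bot] at h2; exact h2
    · exfalso
      have h4 : gen .a ∈ center Cfsg.Spor.Fi22 := by rw [h3]; trivial
      refine not_comm (v := [.a]) (w := [.b]) 0 (by decide +kernel) ?_
      show Commute (mdl.wd [.a]) (mdl.wd [.b])
      rw [mdl.wd_single, mdl.wd_single]
      exact (mem_center_iff.1 h4 (gen .b)).symm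
  have htt : t * t = 1 := T_ne_one ht
  have hinv : t⁻¹ = t := inv_eq_of_mul_eq_one_left htt
  have ht' : z * t * z⁻¹ ∈ T := by
    show IsConj _ _
    exact (show IsConj _ _ from ht).trans (isConj_iff.2 ⟨z, rfl⟩)
  have e : z * (t * z⁻¹ * t⁻¹) = (z * t * z⁻¹) * t := by rw [hinv]; group
  have h1 := index_comm (A := A) z t
  rw [e] at h1
  obtain ⟨b1, b2⟩ := cod_b hr hexp hfix
  refine pow_lt_of (k := 2) (by norm_num) ?_ h1
  by_cases hc : Commute (z * t * z⁻¹) t
  · rw [cc_eq ht' ht hzt hc]; exact b2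
  · rw [nc_eq ht' ht hc]; exact b1

end Act

open Cfsg.Agent.H704.S8

/-- **`Chief` for `Fi22`.** -/
theorem chief {X : Type v} [Group X] [Finite X] (hX : Cfsg.Spor.IsoFi22 X) (D : Set ℕ) : Chief.{u} 2 D X := by
  obtain ⟨e⟩ := hX
  have hk : Nat.card (ConjClasses X) ≤ 118 := by
    have h := Cfsg.Agent.H878.EPX.FiK.k_le
    have := inst_finite
    have hfin : Finite (ConjClasses Cfsg.Spor.Fi22) := Quotient.finite _
    refine le_trans (Nat.card_le_card_of_surjective (ConjClasses.map (e.symm : Cfsg.Spor.Fi22 →* X)) ?_) h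
    exact ConjClasses.map_surjective e.symm.surjective
  refine chief_of_codim (q := 256) D (by norm_num) hk (by norm_num) ?_ ?_
  · rw [Nat.card_congr e.toEquiv, card_eq]; norm_num
  · intro A _ _ _ r hr hexp hfix hA z hz
    letI act : DistribMulAction Cfsg.Spor.Fi22 A := DistribMulAction.compHom A (e.symm : Cfsg.Spor.Fi22 →* X)
    have hact : ∀ (g : Cfsg.Spor.Fi22) (x : A), g • x = e.symm g • x := fun _ _ => rfl
    have h1 := cod (A := A) hr hexp (fun x hx => hfix x fun g => by
      have := hx (e g)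
      rwa [hact, e.symm_apply_apply] at this) (z := e z) (fun h => hz (e.injective (by rw [h, map_one])))
    have h2 : fx A (e z) = fx A z := by
      ext x
      rw [mem_fx, mem_fx, hact, e.symm_apply_apply]
    rwa [h2] at h1

end Cfsg.Agent.H320.SD.Fi
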